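import Mathlib

/-!
# HUP project (S3361): automorphisms of `Q8` and `Q16` of odd order

* `aut_Q16_odd` : an automorphism `ψ` of `QuaternionGroup 4` with `ψ ^ m = 1`, `m` odd, is `1`;
* `aut_Q8_five` : an automorphism `ψ` of `QuaternionGroup 2` with `ψ ^ 5 = 1` is `1`;
* `quat4_invol`, `quat2_invol` : the unique involution.
-/

set_option autoImplicit false

namespace Cfsg.Agent.Lib.Helper39.HUP

open QuaternionGroup

theorem quat4_invol : ∀ x : QuaternionGroup 4, x ^ 2 = 1 → x ≠ 1 → x = a 4 := by decide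

theorem quat2_invol : ∀ x : QuaternionGroup 2, x ^ 2 = 1 → x ≠ 1 → x = a 2 := by decide

theorem quat4_aux : ∀ k : ZMod (2 * 4), (a k : QuaternionGroup 4) ^ 4 ≠ 1 →
    (a k : QuaternionGroup 4) ^ k.val = a 1 := by decide

/-- an automorphism of `Q16` of odd order is trivial -/
theorem aut_Q16_odd (ψ : MulAut (QuaternionGroup 4)) (m : ℕ) (hm : Odd m) (h : ψ ^ m = 1) :
    ψ = 1 := by
  have h8 : orderOf (ψ (a 1)) = 8 := by
    rw [MulEquiv.orderOf_eq]; exact orderOf_a_one
  obtain ⟨k, hk⟩ : ∃ k, ψ (a 1) = a k := by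
    rcases hx : ψ (a 1) with k | j
    · exact ⟨k, rfl⟩
    · rw [hx, orderOf_xa] at h8; omega
  have hk4 : (a k : QuaternionGroup 4) ^ 4 ≠ 1 := by
    apply pow_ne_one_of_lt_orderOf (by norm_num)
    rw [← hk, h8]; norm_num
  have hak : ∀ i : ZMod (2 * 4), (a i : QuaternionGroup 4) = (a 1) ^ i.val := by
    intro i
    rw [a_one_pow, ZMod.natCast_zmod_val]
  have hψ2 : ψ (ψ (a 1)) = a 1 := by
    rw [hk, hak k, map_pow, hk]
    exact quat4_aux k hk4
  have key : ∀ t : ℕ, (ψ ^ (2 * t + 1)) (a 1) = ψ (a 1) := by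
    intro t
    induction t with
    | zero => simp
    | succ t ih =>
      rw [show 2 * (t + 1) + 1 = (2 * t + 1) + 2 by ring, pow_add, MulAut.mul_apply, pow_two,
        MulAut.mul_apply, hψ2, ih]
  obtain ⟨t, rfl⟩ := hm
  have h1 : ψ (a 1) = a 1 := by
    rw [← key t, h]; rfl
  have ha : ∀ i : ZMod (2 * 4), ψ (a i) = a i := by
    intro i
    rw [hak i, map_pow, h1]
  obtain ⟨j, hj⟩ : ∃ j, ψ (xa 0) = xa j := by
    rcases hx : ψ (xa 0) with i | j
    · exfalso
      have h2 : ψ (xa 0) = ψ (a i) := by rw [hx, ha]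
      have h3 := ψ.injective h2
      exact absurd h3 (by simp)
    · exact ⟨j, rfl⟩
  have hxa : ∀ c : ZMod (2 * 4), ψ (xa c) = xa (j + c) := by
    intro c
    have : (xa c : QuaternionGroup 4) = xa 0 * a c := by rw [xa_mul_a, zero_add]
    rw [this, map_mul, hj, ha, xa_mul_a]
  have hpow : ∀ n : ℕ, (ψ ^ n) (xa 0) = xa ((n : ZMod (2 * 4)) * j) := by
    intro n
    induction n with
    | zero => simp
    | succ n ih =>
      rw [pow_succ', MulAut.mul_apply, ih, hxa]
      congr 1
      push_cast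
      ring
  have h5 := hpow (2 * t + 1)
  rw [h] at h5
  have h6 : ((2 * t + 1 : ℕ) : ZMod (2 * 4)) * j = 0 := by
    have h7 : (xa 0 : QuaternionGroup 4) = xa (((2 * t + 1 : ℕ) : ZMod (2 * 4)) * j) := h5
    injection h7 with h8
    exact h8.symm
  have hu : IsUnit ((2 * t + 1 : ℕ) : ZMod (2 * 4)) := by
    rw [ZMod.isUnit_iff_coprime]
    have : Nat.Coprime (2 * t + 1) 2 := by
      rw [Nat.coprime_two_right]
      exact ⟨t, rfl⟩
    exact Nat.Coprime.pow_right 3 this
  have hj0 : j = 0 := (hu.mul_right_eq_zero).mp h6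
  ext x
  cases x with
  | a i => rw [ha]; rfl
  | xa i => rw [hxa, hj0, zero_add]; rfl

/-- an automorphism of `Q8` of order dividing `5` is trivial -/
theorem aut_Q8_five (ψ : MulAut (QuaternionGroup 2)) (h : ψ ^ 5 = 1) : ψ = 1 := by
  classical
  have : Fact (Nat.Prime 5) := ⟨by norm_num⟩
  -- the fixed subgroup
  let F : Subgroup (QuaternionGroup 2) :=
    MonoidHom.eqLocus ψ.toMonoidHom (MonoidHom.id _)
  have hF : ∀ x, x ∈ F ↔ ψ x = x := fun x => Iff.rfl
  have hZ : IsPGroup 5 (Subgroup.zpowers ψ) := by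
    have h1 : orderOf ψ ∣ 5 := orderOf_dvd_of_pow_eq_one h
    rcases (Nat.dvd_prime (by norm_num : Nat.Prime 5)).mp h1 with h2 | h2
    · exact IsPGroup.of_card (n := 0) (by rw [Nat.card_zpowers, h2]; rfl)
    · exact IsPGroup.of_card (n := 1) (by rw [Nat.card_zpowers, h2]; rfl)
  have hmod := hZ.card_modEq_card_fixedPoints (QuaternionGroup 2)
  have hfix : MulAction.fixedPoints (Subgroup.zpowers ψ) (QuaternionGroup 2)
      = (F : Set (QuaternionGroup 2)) := by
    ext x
    rw [MulAction.mem_fixedPoints, SetLike.mem_coe, hF]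
    constructor
    · intro hx
      exact hx ⟨ψ, Subgroup.mem_zpowers ψ⟩
    · intro hx z
      have hle : Subgroup.zpowers ψ ≤ MulAction.stabilizer (MulAut (QuaternionGroup 2)) x := by
        rw [Subgroup.zpowers_le]
        exact hx
      exact hle z.2
  rw [hfix] at hmod
  have hcard : Nat.card (QuaternionGroup 2) = 8 := by
    rw [Nat.card_eq_fintype_card, QuaternionGroup.card]
  have hdvd : Nat.card F ∣ 8 := by
    rw [← hcard]; exact Subgroup.card_subgroup_dvd_card F
  rw [hcard] at hmod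
  have hF8 : Nat.card F = 8 := by
    have hmod' : (8 : ℕ) ≡ Nat.card F [MOD 5] := hmod
    have hle : Nat.card F ≤ 8 := Nat.le_of_dvd (by norm_num) hdvd
    unfold Nat.ModEq at hmod'
    interval_cases hc : Nat.card F <;> simp_all
  have htop : F = ⊤ := by
    apply Subgroup.eq_top_of_card_eq
    rw [hF8, hcard]
  ext x
  have : x ∈ F := by rw [htop]; trivial
  exact (hF x).mp this

end Cfsg.Agent.Lib.Helper39.HUP
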